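import Mathlib

/-! helper7: tensoring with a directed colimit of algebras: tensors dying in the limit die at a finite stage, and consequences for equality and surjectivity of base-changed algebra maps. -/

set_option autoImplicit false
set_option linter.style.haveILetI false
set_option linter.unusedVariables false
set_option linter.unusedSectionVars false

universe u

open TensorProduct

namespace Groth.Agent.Helper7.DirLimTensor

section

variable {ι : Type u} [Preorder ι] [Nonempty ι] [IsDirectedOrder ι] (G : ι → Type u)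
  [∀ i, CommRing (G i)]
  (f : ∀ i j, i ≤ j → G i →+* G j) [DirectedSystem G (fun i j h => f i j h)]
  (A : Type u) [CommRing A] [∀ i, Algebra A (G i)]
  (hf : ∀ i j (h : i ≤ j), (f i j h).comp (algebraMap A (G i)) = algebraMap A (G j)) (l : ι)

/-- The algebra structure on the direct limit through the stage `l`. -/
@[reducible] noncomputable def algR : Algebra A (Ring.DirectLimit G (fun i j h => f i j h)) :=
  ((Ring.DirectLimit.of G (fun i j h => f i j h) l).comp (algebraMap A (G l))).toAlgebra

/-- Transition maps as `A`-linear maps. -/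
def fl (i j : ι) (h : i ≤ j) : G i →ₗ[A] G j where
  toFun := f i j h
  map_add' := map_add _
  map_smul' a x := by
    have := congrArg (fun φ => φ a) (hf i j h)
    simp only [RingHom.comp_apply] at this
    simp only [Algebra.smul_def, map_mul, this, RingHom.id_apply]

include hf in
theorem of_algebraMap (i : ι) (a : A) :
    Ring.DirectLimit.of G (fun i j h => f i j h) i (algebraMap A (G i) a) =
      Ring.DirectLimit.of G (fun i j h => f i j h) l (algebraMap A (G l) a) := by
  obtain ⟨k, hik, hlk⟩ := exists_ge_ge i l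
  have h1 := congrArg (fun φ => φ a) (hf i k hik)
  have h2 := congrArg (fun φ => φ a) (hf l k hlk)
  simp only [RingHom.comp_apply] at h1 h2
  rw [← Ring.DirectLimit.of_f hik, ← Ring.DirectLimit.of_f hlk, h1, h2]

/-- The structure maps as `A`-linear maps. -/
noncomputable def ofl (i : ι) :
    letI := algR G f A l
    G i →ₗ[A] Ring.DirectLimit G (fun i j h => f i j h) :=
  letI := algR G f A l
  { toFun := Ring.DirectLimit.of G (fun i j h => f i j h) i
    map_add' := map_add _
    map_smul' := fun a x => by
      rw [Algebra.smul_def, map_mul, of_algebraMap G f A hf l i a, RingHom.id_apply,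
        Algebra.smul_def]
      rfl }

theorem fl_apply (i j : ι) (h : i ≤ j) (x : G i) : fl G f A hf i j h x = f i j h x := rfl

theorem ofl_apply (i : ι) (x : G i) :
    letI := algR G f A l
    ofl G f A hf l i x = Ring.DirectLimit.of G (fun i j h => f i j h) i x := rfl

instance directedSystem_fl : DirectedSystem G (fun i j h => fl G f A hf i j h) where
  map_self i x := DirectedSystem.map_self (f := fun i j h => f i j h) x
  map_map k j i hij hjk x := DirectedSystem.map_map (f := fun i j h => f i j h) hij hjk x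

theorem ofl_comp_fl (i j : ι) (h : i ≤ j) :
    letI := algR G f A l
    (ofl G f A hf l j) ∘ₗ (fl G f A hf i j h) = ofl G f A hf l i := by
  letI := algR G f A l
  ext x
  exact Ring.DirectLimit.of_f h x

open Classical in
/-- The comparison map from the module direct limit to the ring direct limit. -/
noncomputable def psi :
    letI := algR G f A l
    Module.DirectLimit G (fl G f A hf) →ₗ[A] Ring.DirectLimit G (fun i j h => f i j h) :=
  letI := algR G f A l
  Module.DirectLimit.lift A ι G (fl G f A hf) (fun i => ofl G f A hf l i)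
    (fun i j h x => Ring.DirectLimit.of_f h x)

open Classical in
theorem psi_of (i : ι) (x : G i) :
    letI := algR G f A l
    psi G f A hf l (Module.DirectLimit.of A ι G (fl G f A hf) i x) =
      Ring.DirectLimit.of G (fun i j h => f i j h) i x := by
  letI := algR G f A l
  exact Module.DirectLimit.lift_of _ _ x

open Classical in
theorem psi_bijective :
    letI := algR G f A l
    Function.Bijective (psi G f A hf l) := by
  letI := algR G f A l
  constructor
  · rw [injective_iff_map_eq_zero]
    intro z hz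
    obtain ⟨i, x, rfl⟩ := Module.DirectLimit.exists_of z
    rw [psi_of] at hz
    obtain ⟨j, hij, hj⟩ := Ring.DirectLimit.of.zero_exact hz
    rw [← Module.DirectLimit.of_f (hij := hij)]
    have : fl G f A hf i j hij x = 0 := hj
    rw [this, map_zero]
  · intro r
    obtain ⟨i, x, rfl⟩ := Ring.DirectLimit.exists_of r
    exact ⟨Module.DirectLimit.of A ι G (fl G f A hf) i x, psi_of G f A hf l i x⟩

open Classical in
/-- Lemma K: a tensor dying in the limit dies at a finite stage. -/
theorem exists_rTensor_eq_zero (C : Type u) [AddCommGroup C] [Module A C] (i : ι)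
    (z : G i ⊗[A] C) :
    letI := algR G f A l
    (ofl G f A hf l i).rTensor C z = 0 → ∃ (j : ι) (hij : i ≤ j),
      (fl G f A hf i j hij).rTensor C z = 0 := by
  letI := algR G f A l
  intro hz
  let ψe : Module.DirectLimit G (fl G f A hf) ≃ₗ[A] Ring.DirectLimit G (fun i j h => f i j h) :=
    LinearEquiv.ofBijective (psi G f A hf l) (psi_bijective G f A hf l)
  have hcomp : ofl G f A hf l i =
      ψe.toLinearMap ∘ₗ Module.DirectLimit.of A ι G (fl G f A hf) i := by
    ext x
    exact (psi_of G f A hf l i x).symm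
  rw [hcomp, LinearMap.rTensor_comp, LinearMap.comp_apply] at hz
  have h1 : (Module.DirectLimit.of A ι G (fl G f A hf) i).rTensor C z = 0 := by
    have := (LinearEquiv.rTensor C ψe).injective
    apply this
    rw [map_zero]
    exact hz
  have h2 := congrArg (TensorProduct.directLimitLeft (fl G f A hf) C) h1
  rw [TensorProduct.directLimitLeft_rTensor_of, map_zero] at h2
  obtain ⟨j, hij, hj⟩ := Module.DirectLimit.of.zero_exact h2
  exact ⟨j, hij, hj⟩

/-- Lemma S: every tensor over the limit comes from a finite stage. -/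
theorem exists_rTensor_eq (B : Type u) [AddCommGroup B] [Module A B] :
    letI := algR G f A l
    ∀ (y : Ring.DirectLimit G (fun i j h => f i j h) ⊗[A] B),
      ∃ (i : ι) (y' : G i ⊗[A] B), (ofl G f A hf l i).rTensor B y' = y := by
  letI := algR G f A l
  intro y
  induction y using TensorProduct.induction_on with
  | zero => exact ⟨Classical.arbitrary ι, 0, map_zero _⟩
  | tmul r b =>
    obtain ⟨i, x, rfl⟩ := Ring.DirectLimit.exists_of r
    exact ⟨i, x ⊗ₜ b, rfl⟩
  | add y₁ y₂ h₁ h₂ =>
    obtain ⟨i₁, y₁', rfl⟩ := h₁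
    obtain ⟨i₂, y₂', rfl⟩ := h₂
    obtain ⟨k, h1k, h2k⟩ := exists_ge_ge i₁ i₂
    refine ⟨k, (fl G f A hf i₁ k h1k).rTensor B y₁' + (fl G f A hf i₂ k h2k).rTensor B y₂', ?_⟩
    rw [map_add, ← LinearMap.comp_apply, ← LinearMap.comp_apply, ← LinearMap.rTensor_comp,
      ← LinearMap.rTensor_comp, ofl_comp_fl, ofl_comp_fl]

include hf in
theorem one_tmul_eq_zero_of (C : Type u) [AddCommGroup C] [Module A C] (c : C) :
    letI := algR G f A l
    (1 : Ring.DirectLimit G (fun i j h => f i j h)) ⊗ₜ[A] c = 0 →
      ∃ j : ι, l ≤ j ∧ ∀ k, j ≤ k → (1 : G k) ⊗ₜ[A] c = 0 := by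
  letI := algR G f A l
  intro h
  have h1 : (ofl G f A hf l l).rTensor C ((1 : G l) ⊗ₜ[A] c) = 0 := by
    rw [LinearMap.rTensor_tmul, ofl_apply, map_one]
    exact h
  obtain ⟨j, hlj, hj⟩ := exists_rTensor_eq_zero G f A hf l C l _ h1
  refine ⟨j, hlj, fun k hjk => ?_⟩
  have h2 := congrArg ((fl G f A hf j k hjk).rTensor C) hj
  rw [map_zero, LinearMap.rTensor_tmul, LinearMap.rTensor_tmul, fl_apply, fl_apply, map_one,
    map_one] at h2
  exact h2

theorem fl_comp_fl (i j k : ι) (hij : i ≤ j) (hjk : j ≤ k) :
    (fl G f A hf j k hjk) ∘ₗ (fl G f A hf i j hij) = fl G f A hf i k (hij.trans hjk) := by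
  ext x
  exact DirectedSystem.map_map (f := fun i j h => f i j h) hij hjk x

include hf in
theorem part1 (B C : Type u) [CommRing B] [CommRing C] [Algebra A B] [Algebra A C] :
    letI := algR G f A l
    Algebra.FiniteType A B → ∀ u u' : B →ₐ[A] C,
        Algebra.TensorProduct.map (AlgHom.id A (Ring.DirectLimit G (fun i j h => f i j h))) u =
            Algebra.TensorProduct.map (AlgHom.id A (Ring.DirectLimit G (fun i j h => f i j h))) u' →
          ∃ i : ι, Algebra.TensorProduct.map (AlgHom.id A (G i)) u =
            Algebra.TensorProduct.map (AlgHom.id A (G i)) u' := by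
  letI := algR G f A l
  classical
  intro hft u u' huu'
  obtain ⟨s, hs⟩ := hft.out
  have h1 : ∀ b : B, (1 : Ring.DirectLimit G (fun i j h => f i j h)) ⊗ₜ[A] (u b - u' b) = 0 := by
    intro b
    have := congrArg
      (fun φ => φ ((1 : Ring.DirectLimit G (fun i j h => f i j h)) ⊗ₜ[A] b)) huu'
    simp only [Algebra.TensorProduct.map_tmul, AlgHom.coe_id, id_eq] at this
    rw [TensorProduct.tmul_sub, this, sub_self]
  choose j hlj hj using fun b : B => one_tmul_eq_zero_of G f A hf l C (u b - u' b) (h1 b)
  obtain ⟨k, hk⟩ := Finset.exists_le (s.image j)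
  refine ⟨k, ?_⟩
  have h2 : ∀ b ∈ s, (1 : G k) ⊗ₜ[A] u b = (1 : G k) ⊗ₜ[A] u' b := by
    intro b hb
    have := hj b k (hk _ (Finset.mem_image_of_mem j hb))
    rwa [TensorProduct.tmul_sub, sub_eq_zero] at this
  have h3 : (Algebra.TensorProduct.includeRight : C →ₐ[A] G k ⊗[A] C).comp u =
      (Algebra.TensorProduct.includeRight : C →ₐ[A] G k ⊗[A] C).comp u' := by
    apply AlgHom.ext_of_adjoin_eq_top hs
    intro b hb
    exact h2 b hb
  apply Algebra.TensorProduct.ext
  · ext g
    simp
  · ext b
    simpa using congrArg (fun φ => φ b) h3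

include hf in
theorem part2 (B C : Type u) [CommRing B] [CommRing C] [Algebra A B] [Algebra A C] :
    letI := algR G f A l
    Algebra.FiniteType A C → ∀ u : B →ₐ[A] C,
        Function.Surjective
            (Algebra.TensorProduct.map (AlgHom.id A (Ring.DirectLimit G (fun i j h => f i j h))) u) →
          ∃ i : ι, Function.Surjective (Algebra.TensorProduct.map (AlgHom.id A (G i)) u) := by
  letI := algR G f A l
  classical
  intro hft u hsurj
  obtain ⟨t, ht⟩ := hft.out
  have nat : ∀ i (y : G i ⊗[A] B), (ofl G f A hf l i).rTensor C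
      (Algebra.TensorProduct.map (AlgHom.id A (G i)) u y) =
      Algebra.TensorProduct.map (AlgHom.id A (Ring.DirectLimit G (fun i j h => f i j h))) u
        ((ofl G f A hf l i).rTensor B y) := by
    intro i y
    induction y using TensorProduct.induction_on with
    | zero => simp
    | tmul g b => rfl
    | add y₁ y₂ h₁ h₂ => rw [map_add, map_add, map_add, map_add, h₁, h₂]
  have nat2 : ∀ i j (h : i ≤ j) (y : G i ⊗[A] B), (fl G f A hf i j h).rTensor C
      (Algebra.TensorProduct.map (AlgHom.id A (G i)) u y) =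
      Algebra.TensorProduct.map (AlgHom.id A (G j)) u ((fl G f A hf i j h).rTensor B y) := by
    intro i j h y
    induction y using TensorProduct.induction_on with
    | zero => simp
    | tmul g b => rfl
    | add y₁ y₂ h₁ h₂ => rw [map_add, map_add, map_add, map_add, h₁, h₂]
  have key : ∀ c : C, ∃ j, ∃ y : G j ⊗[A] B,
      Algebra.TensorProduct.map (AlgHom.id A (G j)) u y = (1 : G j) ⊗ₜ[A] c := by
    intro c
    obtain ⟨y, hy⟩ := hsurj ((1 : Ring.DirectLimit G (fun i j h => f i j h)) ⊗ₜ[A] c)
    obtain ⟨i, y', rfl⟩ := exists_rTensor_eq G f A hf l B y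
    obtain ⟨k, hik, hlk⟩ := exists_ge_ge i l
    let z : G k ⊗[A] C := (fl G f A hf i k hik).rTensor C
      (Algebra.TensorProduct.map (AlgHom.id A (G i)) u y') - (1 : G k) ⊗ₜ[A] c
    have hz : (ofl G f A hf l k).rTensor C z = 0 := by
      rw [map_sub, ← LinearMap.comp_apply, ← LinearMap.rTensor_comp, ofl_comp_fl, nat, hy,
        LinearMap.rTensor_tmul, ofl_apply, map_one, sub_self]
    obtain ⟨j, hkj, hj⟩ := exists_rTensor_eq_zero G f A hf l C k z hz
    refine ⟨j, (fl G f A hf i j (hik.trans hkj)).rTensor B y', ?_⟩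
    rw [← nat2]
    rw [map_sub, ← LinearMap.comp_apply, ← LinearMap.rTensor_comp, fl_comp_fl,
      LinearMap.rTensor_tmul, fl_apply, map_one, sub_eq_zero] at hj
    exact hj
  choose j y hy using key
  obtain ⟨k, hk⟩ := Finset.exists_le (t.image j)
  refine ⟨k, ?_⟩
  have h1 : ∀ c ∈ t, (1 : G k) ⊗ₜ[A] c ∈
      (Algebra.TensorProduct.map (AlgHom.id A (G k)) u).range := by
    intro c hc
    refine ⟨(fl G f A hf (j c) k (hk _ (Finset.mem_image_of_mem j hc))).rTensor B (y c), ?_⟩
    change (Algebra.TensorProduct.map (AlgHom.id A (G k)) u)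
      ((fl G f A hf (j c) k (hk _ (Finset.mem_image_of_mem j hc))).rTensor B (y c)) = _
    rw [← nat2, hy c, LinearMap.rTensor_tmul, fl_apply, map_one]
  have h2 : ∀ c : C, (1 : G k) ⊗ₜ[A] c ∈
      (Algebra.TensorProduct.map (AlgHom.id A (G k)) u).range := by
    have : (⊤ : Subalgebra A C) ≤ (Algebra.TensorProduct.map (AlgHom.id A (G k)) u).range.comap
        (Algebra.TensorProduct.includeRight : C →ₐ[A] G k ⊗[A] C) := by
      rw [← ht]
      apply Algebra.adjoin_le
      intro c hc
      exact h1 c hc
    intro c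
    exact this Algebra.mem_top
  intro w
  induction w using TensorProduct.induction_on with
  | zero => exact ⟨0, map_zero _⟩
  | tmul g c =>
    have hgc : g ⊗ₜ[A] c = (g ⊗ₜ[A] (1 : C)) * ((1 : G k) ⊗ₜ[A] c) := by
      rw [Algebra.TensorProduct.tmul_mul_tmul, mul_one, one_mul]
    obtain ⟨y₀, hy₀'⟩ := h2 c
    have hy₀ : (Algebra.TensorProduct.map (AlgHom.id A (G k)) u) y₀ = (1 : G k) ⊗ₜ[A] c := hy₀'
    refine ⟨(g ⊗ₜ[A] (1 : B)) * y₀, ?_⟩
    rw [map_mul, hy₀, hgc]
    simp only [Algebra.TensorProduct.map_tmul, map_one, AlgHom.coe_id, id_eq]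
  | add w₁ w₂ h₁ h₂ =>
    obtain ⟨a, rfl⟩ := h₁
    obtain ⟨b, rfl⟩ := h₂
    exact ⟨a + b, map_add _ _ _⟩

include hf in
theorem main (B C : Type u) [CommRing B] [CommRing C] [Algebra A B] [Algebra A C] :
    letI : Algebra A (Ring.DirectLimit G (fun i j h => f i j h)) :=
      ((Ring.DirectLimit.of G (fun i j h => f i j h) l).comp (algebraMap A (G l))).toAlgebra
    (Algebra.FiniteType A B → ∀ u u' : B →ₐ[A] C,
        Algebra.TensorProduct.map (AlgHom.id A (Ring.DirectLimit G (fun i j h => f i j h))) u =
            Algebra.TensorProduct.map (AlgHom.id A (Ring.DirectLimit G (fun i j h => f i j h))) u' →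
          ∃ i : ι, Algebra.TensorProduct.map (AlgHom.id A (G i)) u =
            Algebra.TensorProduct.map (AlgHom.id A (G i)) u') ∧
      (Algebra.FiniteType A C → ∀ u : B →ₐ[A] C,
        Function.Surjective
            (Algebra.TensorProduct.map (AlgHom.id A (Ring.DirectLimit G (fun i j h => f i j h))) u) →
          ∃ i : ι, Function.Surjective (Algebra.TensorProduct.map (AlgHom.id A (G i)) u)) :=
  ⟨part1 G f A hf l B C, part2 G f A hf l B C⟩

end

end Groth.Agent.Helper7.DirLimTensor
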